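import Mathlib
import Cfsg.Agent.Lib.FGB.MaxClassPower

/-! Elements with centralizer of order p² outside a given proper subgroup of a maximal class group. -/

set_option autoImplicit false

namespace Cfsg.Agent.MaxSylow

open Subgroup
open scoped commutatorElement
open Cfsg.Agent.FGB.MaxClass

universe u

variable {p : ℕ} [hp : Fact p.Prime]

theorem twoStep_periodic {G : Type u} [Group G] [Finite G] {n : ℕ} (h : IsMax p n G) {k : ℕ} (hk : 1 ≤ k)
    (hk' : k + (p - 1) + 3 ≤ n) {s : G} (hsk : s ∉ twoStep G k) : s ∉ twoStep G (k + (p - 1)) := by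
  have hp2 := hp.out.two_le
  have hE : ∀ m, PropE.{u} p m := fun m => (all_props m).1
  have hF : ∀ m, PropF.{u} p m := fun m => (all_props m).2.1
  intro hsi
  apply h.twoStep_ne_top (i := k + (p - 1)) (by omega)
  obtain ⟨a, ha, hac⟩ : ∃ a ∈ (⊤ : Subgroup G).lowerCentralSeries k,
      ⁅a, s⁆ ∉ (⊤ : Subgroup G).lowerCentralSeries (k + 2) := by
    by_contra hall
    push Not at hall
    exact hsk (mem_twoStep.2 hall)
  have ha' : a ∉ (⊤ : Subgroup G).lowerCentralSeries (k + 1) := fun hh => hac (comm_mem_succ hh s)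
  have hap := pow_mem_layer (hE (k + p)) h (by omega) (by omega) ha
  have hap' := pow_not_mem_layer (hF (k + p + 1)) h (by omega) (by omega) ha ha'
  rw [show k + p - 1 = k + (p - 1) by omega] at hap
  rw [show k + p = k + (p - 1) + 1 by omega] at hap'
  have hle : twoStep G k ≤ twoStep G (k + (p - 1)) := by
    intro b hb
    have hq := h.quot (j := k + (p - 1) + 2) (by omega) (by omega)
    set π := layerMap G (k + (p - 1) + 2)
    have hx1 : π a ^ p ∈ (⊤ : Subgroup (G ⧸ _)).lowerCentralSeries (k + (p - 1) + 2 + 1 - 3) := by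
      rw [← map_pow, show k + (p - 1) + 2 + 1 - 3 = k + (p - 1) by omega]
      exact (mem_layer_iff (by omega)).2 hap
    have hx2 : π a ^ p ∉ (⊤ : Subgroup (G ⧸ _)).lowerCentralSeries (k + (p - 1) + 2 + 1 - 2) := by
      rw [← map_pow, show k + (p - 1) + 2 + 1 - 2 = k + (p - 1) + 1 by omega]
      exact fun hh => hap' ((mem_layer_iff (by omega)).1 hh)
    have hTb := hq.deep_class (by omega) hx1 hx2
    have hc : ⁅π b, π a⁆ ∈ (⊤ : Subgroup (G ⧸ _)).lowerCentralSeries (k + (p - 1) + 2 + 1 - p) := by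
      rw [← map_commutatorElement, show k + (p - 1) + 2 + 1 - p = k + 2 by omega, ← commutatorElement_inv]
      exact (mem_layer_iff (by omega)).2 (inv_mem (mem_twoStep.1 hb a ha))
    have hcp := hE _ _ hq (by omega) _ hc
    have hcT : ⁅π b, π a⁆ ∈ zpowers (π a) ⊔
        (⊤ : Subgroup (G ⧸ _)).lowerCentralSeries (k + (p - 1) + 2 + 1 - 1 - p) :=
      mem_sup_right ((⊤ : Subgroup (G ⧸ _)).lowerCentralSeries_antitone (by omega) hc)
    have h1 := regular_mul hq.isPGroup hTb hcT (mem_sup_left (mem_zpowers (π a))) hcp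
    rw [commutatorElement_def, inv_mul_cancel_right, conj_pow] at h1
    have h2 : Commute (π (a ^ p)) (π b) := by
      rw [map_pow]
      exact (mul_inv_eq_iff_eq_mul.1 h1).symm
    rw [← commutatorElement_eq_one_iff_commute, ← map_commutatorElement, layer_eq_one_iff] at h2
    by_contra hnb
    exact h.step (by omega) (by omega) hnb hap hap' h2
  rw [eq_top_iff]
  intro g _
  obtain ⟨z, hz⟩ : ∃ z : ℤ, g * (s ^ z)⁻¹ ∈ twoStep G k := by
    obtain ⟨z, w, hw, he⟩ := h.exists_zpow_mul (i := k + 1) (by omega) (by omega) (comm_mem_succ ha s) hac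
      (comm_mem_succ ha g)
    refine ⟨z, by_contra fun hnb => h.step (i := k) (by omega) (by omega) hnb ha ha' ?_⟩
    rw [← layer_eq_one_iff, layer_comm_mul_right ha]
    have h1 := map_inv (commHom G k ⟨a, ha⟩) (s ^ z)
    have h2 := map_zpow (commHom G k ⟨a, ha⟩) s z
    change layerMap G (k + 2) ⁅a, (s ^ z)⁻¹⁆ = (layerMap G (k + 2) ⁅a, s ^ z⁆)⁻¹ at h1
    change layerMap G (k + 2) ⁅a, s ^ z⁆ = (layerMap G (k + 2) ⁅a, s⁆) ^ z at h2
    rw [h1, h2, he, map_mul, map_zpow, layer_eq_one_iff.2 hw, mul_one, mul_inv_cancel]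
  have := mul_mem (hle hz) (zpow_mem hsi z)
  rwa [inv_mul_cancel_right] at this

theorem lcs_one_le_twoStep {G : Type u} [Group G] (i : ℕ) :
    (⊤ : Subgroup G).lowerCentralSeries 1 ≤ twoStep G i := by
  intro s hs
  rw [mem_twoStep]
  intro u hu
  have h1 := FGS.PolySeq.fil_comm (G := G) (1 + 1) (i + 1) (commutator_mem_commutator hu hs)
  rw [show i + 1 + (1 + 1) = (i + 2) + 1 by omega] at h1
  exact h1

/-- An element outside every two-step centralizer has centralizer of order at most `p ^ 2`. -/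
theorem card_centralizer_le_sq {G : Type u} [Group G] [Finite G] {n : ℕ} (h : IsMax p n G) (hn : 3 ≤ n)
    {s : G} (hs1 : s ∉ commutator G) (hs : ∀ i, 1 ≤ i → i + 3 ≤ n → s ∉ twoStep G i) :
    Nat.card (Subgroup.centralizer ({s} : Set G)) ≤ p ^ 2 := by
  set C := Subgroup.centralizer ({s} : Set G) with hCdef
  haveI := h.isPGroup.isNilpotent
  set L := commutator G with hL
  have hC1 : Nat.card ↥(C ⊓ L) ≤ p := by
    have hle : C ⊓ L ≤ (⊤ : Subgroup G).lowerCentralSeries (n - 2) := by
      intro g hg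
      have := h.commute_deep (m := n - 3) (by omega) (fun i hi hi' => hs i hi (by omega))
        (g := g) (by rw [Subgroup.top_lowerCentralSeries_one]; exact hg.2)
        (Subgroup.mem_centralizer_singleton_iff.1 hg.1)
      rwa [show n - 3 + 1 = n - 2 by omega] at this
    refine (Subgroup.card_le_of_le hle).trans ?_
    rw [h.lcs_card (n - 2) (by omega) (by omega), show n - 1 - (n - 2) = 1 by omega, pow_one]
  have hcardL : Nat.card L = p ^ (n - 2) := by
    rw [hL, ← Subgroup.top_lowerCentralSeries_one, h.lcs_card 1 le_rfl (by omega),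
      show n - 1 - 1 = n - 2 by omega]
  have hnt : C ⊔ L ≠ ⊤ := by
    intro htop
    have h1 : C ⊔ frattini G = ⊤ :=
      eq_top_iff.2 (htop ▸ sup_le_sup_left Cfsg.Agent.Basics.commutator_le_frattini C)
    have hCtop : C = ⊤ := frattini_nongenerating h1
    have hsZ : s ∈ center G := by
      rw [mem_center_iff]
      intro g
      exact Subgroup.mem_centralizer_singleton_iff.1 (show g ∈ C by rw [hCtop]; exact mem_top g)
    have hz := (center_data h.isPGroup h.card hn h.class_eq).1
    have heq : (⊤ : Subgroup G).lowerCentralSeries (n - 2) = center G := Subgroup.eq_of_le_of_card_ge h.le_center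
      (by rw [hz, h.lcs_card (n - 2) (by omega) (by omega), show n - 1 - (n - 2) = 1 by omega, pow_one])
    apply hs1
    rw [hL, ← Subgroup.top_lowerCentralSeries_one]
    exact (⊤ : Subgroup G).lowerCentralSeries_antitone (show 1 ≤ n - 2 by omega) (heq ▸ hsZ)
  obtain ⟨e, he⟩ := IsPGroup.iff_card.1 (h.isPGroup.to_subgroup (C ⊔ L))
  have hlt := Cfsg.Agent.Basics.card_lt_of_lt (lt_top_iff_ne_top.2 hnt)
  rw [Subgroup.card_top, h.card, he, Nat.pow_lt_pow_iff_right hp.out.one_lt] at hlt
  -- second isomorphism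
  have hmul : Nat.card ↥(C ⊔ L) * Nat.card ↥(C ⊓ L) = Nat.card C * Nat.card L := by
    have h1 := Cfsg.Agent.Basics.card_map_mul_card_inf_ker (QuotientGroup.mk' L) C
    have h2 := Cfsg.Agent.Basics.card_map_mul_card_inf_ker (QuotientGroup.mk' L) (C ⊔ L)
    rw [QuotientGroup.ker_mk'] at h1 h2
    have h3 : (C ⊔ L).map (QuotientGroup.mk' L) = C.map (QuotientGroup.mk' L) := by
      rw [Subgroup.map_sup, (Subgroup.map_eq_bot_iff L).2 (QuotientGroup.ker_mk' L).ge, sup_bot_eq]
    rw [h3, inf_eq_right.2 (le_sup_right : L ≤ C ⊔ L)] at h2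
    rw [← h2, ← h1]; ring
  have hbound : Nat.card ↥(C ⊔ L) * Nat.card ↥(C ⊓ L) ≤ p ^ (n - 1) * p :=
    Nat.mul_le_mul (by rw [he]; exact Nat.pow_le_pow_right hp.out.pos (by omega)) hC1
  rw [hmul, hcardL, ← pow_succ, show n - 1 + 1 = 2 + (n - 2) by omega, pow_add] at hbound
  exact Nat.le_of_mul_le_mul_right hbound (pow_pos hp.out.pos _)

theorem sq_le_card_centralizer {G : Type u} [Group G] [Finite G] (hG : IsPGroup p G)
    (hp2 : p ^ 2 ≤ Nat.card G) (s : G) : p ^ 2 ≤ Nat.card (Subgroup.centralizer ({s} : Set G)) := by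
  set C := Subgroup.centralizer ({s} : Set G) with hCdef
  obtain ⟨j, hj⟩ := IsPGroup.iff_card.1 (hG.to_subgroup C)
  by_contra hlt
  push Not at hlt
  rw [hj, Nat.pow_lt_pow_iff_right hp.out.one_lt] at hlt
  haveI : Nontrivial G := Finite.one_lt_card_iff_nontrivial.mp
    (lt_of_lt_of_le (Nat.one_lt_pow (by omega) hp.out.one_lt) hp2)
  haveI := hG.center_nontrivial
  have hZC : center G ≤ C := fun z hz => Subgroup.mem_centralizer_singleton_iff.mpr
    ((Subgroup.mem_center_iff.mp hz s).symm)
  obtain ⟨i, hi⟩ := IsPGroup.iff_card.1 (hG.to_subgroup (center G))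
  have hi1 : 1 ≤ i := by
    by_contra h
    have := Finite.one_lt_card (α := center G)
    rw [hi, show i = 0 by omega, pow_zero] at this
    omega
  have heq : center G = C := Subgroup.eq_of_le_of_card_ge hZC
    (by rw [hi, hj]; exact Nat.pow_le_pow_right hp.out.pos (by omega))
  have hmem : s ∈ center G := heq ▸ Subgroup.mem_centralizer_singleton_iff.mpr rfl
  have htop : C = ⊤ := eq_top_iff.mpr fun g _ =>
    Subgroup.mem_centralizer_singleton_iff.mpr (Subgroup.mem_center_iff.mp hmem g)
  rw [htop, Subgroup.card_top] at hj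
  rw [hj, Nat.pow_le_pow_iff_right hp.out.one_lt] at hp2
  omega

/-- Elements with centralizer of order `p ^ 2` outside the derived group avoid any proper subgroup. -/
theorem exists_good {G : Type u} [Group G] [Finite G] {n : ℕ} (h : IsMax p n G) (hn : 3 ≤ n)
    (M : Subgroup G) (hM : M ≠ ⊤) :
    ∃ s, s ∉ M ∧ s ∉ commutator G ∧ Nat.card (Subgroup.centralizer ({s} : Set G)) = p ^ 2 := by
  classical
  have hp2 := hp.out.two_le
  haveI := h.isPGroup.isNilpotent
  have hM' : M ⊔ commutator G ≠ ⊤ := fun htop => hM (frattini_nongenerating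
    (eq_top_iff.2 (htop ▸ sup_le_sup_left Cfsg.Agent.Basics.commutator_le_frattini M)))
  set m := min (p - 1) (n - 3) with hm
  let C : Option ℕ → Subgroup G := fun o => o.elim (M ⊔ commutator G) (fun i => twoStep G i)
  obtain ⟨s, hs⟩ := exists_avoid h.isPGroup (insert none ((Finset.Icc 1 m).image some)) C
    ((Finset.card_insert_le _ _).trans (Nat.add_le_of_le_sub (by omega)
      (Finset.card_image_le.trans (by rw [Nat.card_Icc]; omega))))
    (by
      intro i hi
      rcases i with _ | i
      · exact hM'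
      · simp only [Finset.mem_insert, reduceCtorEq, false_or, Finset.mem_image, Finset.mem_Icc,
          Option.some.injEq, exists_eq_right] at hi
        exact h.twoStep_ne_top (by omega))
  have hsM : s ∉ M ⊔ commutator G := hs none (Finset.mem_insert_self _ _)
  have hsmall : ∀ i, 1 ≤ i → i ≤ m → s ∉ twoStep G i := fun i hi hi' =>
    hs (some i) (Finset.mem_insert_of_mem (Finset.mem_image.2 ⟨i, Finset.mem_Icc.2 ⟨hi, hi'⟩, rfl⟩))
  have hall : ∀ i, 1 ≤ i → i + 3 ≤ n → s ∉ twoStep G i := by
    intro i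
    induction i using Nat.strong_induction_on with
    | _ i ih =>
      intro hi hi'
      rcases Nat.lt_or_ge (p - 1) i with hlt | hge
      · have := twoStep_periodic h (k := i - (p - 1)) (by omega) (by omega)
          (ih (i - (p - 1)) (by omega) (by omega) (by omega))
        rwa [show i - (p - 1) + (p - 1) = i by omega] at this
      · exact hsmall i hi (by omega)
  have hs1 : s ∉ commutator G := fun h1 => hsM (mem_sup_right h1)
  refine ⟨s, fun h1 => hsM (mem_sup_left h1), hs1, le_antisymm (card_centralizer_le_sq h hn hs1 hall) ?_⟩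
  exact sq_le_card_centralizer h.isPGroup
    (by rw [h.card]; exact Nat.pow_le_pow_right hp.out.pos (by omega)) s

end Cfsg.Agent.MaxSylow
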