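import Mathlib
import Cfsg.Agent.Lib.MaxSylow.Good

/-! Fusion of elements with centralizer of order p² in a Sylow subgroup of maximal class. -/

set_option autoImplicit false

namespace Cfsg.Agent.MaxSylow

open Subgroup
open scoped Pointwise commutatorElement
open Cfsg.Agent.FGB.MaxClass

universe u

variable {p : ℕ} [hp : Fact p.Prime]

theorem isMax_of_surjective {P : Type u} [Group P] [Finite P] {H : Type u} [Group H] [Finite H] {n : ℕ}
    (h : IsMax p n P) (hn : 3 ≤ n) (f : P →* H) (hf : Function.Surjective f) (hk : Nat.card f.ker = p) :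
    IsMax p (n - 1) H := by
  refine ⟨by omega, ?_, fun hb => ?_⟩
  · have h1 := f.ker.card_mul_index
    rw [Subgroup.index_ker, MonoidHom.range_eq_top.2 hf, Subgroup.card_top, hk, h.card,
      show p ^ n = p * p ^ (n - 1) by rw [← pow_succ', show n - 1 + 1 = n by omega]] at h1
    exact Nat.eq_of_mul_eq_mul_left hp.out.pos h1
  · have hmap : ((⊤ : Subgroup P).lowerCentralSeries (n - 1 - 2)).map f = ⊥ := by
      rw [Subgroup.map_lowerCentralSeries, ← MonoidHom.range_eq_map, MonoidHom.range_eq_top.2 hf, hb]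
    rw [Subgroup.map_eq_bot_iff] at hmap
    have h1 := Subgroup.card_le_of_le hmap
    rcases Nat.lt_or_ge n 4 with h4 | h4
    · rw [show n - 1 - 2 = 0 by omega, Subgroup.lowerCentralSeries_zero, Subgroup.card_top, h.card, hk] at h1
      exact absurd ((Nat.pow_le_pow_iff_right hp.out.one_lt).1 (h1.trans (pow_one p).ge)) (by omega)
    · rw [h.lcs_card (n - 1 - 2) (by omega) (by omega), hk] at h1
      exact absurd ((Nat.pow_le_pow_iff_right hp.out.one_lt).1 (h1.trans (pow_one p).ge)) (by omega)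

theorem card_centralizer_map_le {P : Type u} [Group P] [Finite P] {H : Type u} [Group H] (f : P →* H)
    (hf : Function.Surjective f) (s : P) :
    Nat.card (Subgroup.centralizer ({f s} : Set H)) ≤ Nat.card (Subgroup.centralizer ({s} : Set P)) := by
  set C := Subgroup.centralizer ({s} : Set P) with hC
  set D := (Subgroup.centralizer ({f s} : Set H)).comap f with hD
  have hCD : C ≤ D := fun c hc => by
    rw [hD, mem_comap, Subgroup.mem_centralizer_singleton_iff, ← map_mul, ← map_mul,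
      Subgroup.mem_centralizer_singleton_iff.1 hc]
  let φ : D ⧸ C.subgroupOf D → f.ker := fun q => ⟨(q.out : P) * s * (q.out : P)⁻¹ * s⁻¹, by
    have h := Subgroup.mem_centralizer_singleton_iff.1 q.out.2
    rw [MonoidHom.mem_ker, map_mul, map_mul, map_mul, map_inv, map_inv, h]
    group⟩
  have hφ : Function.Injective φ := by
    intro q q' hqq
    have h : ((q.out : D) : P) * s * ((q.out : D) : P)⁻¹ * s⁻¹ =
        ((q'.out : D) : P) * s * ((q'.out : D) : P)⁻¹ * s⁻¹ := congrArg Subtype.val hqq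
    rw [← q.out_eq, ← q'.out_eq]
    apply QuotientGroup.eq.mpr
    rw [Subgroup.mem_subgroupOf, Subgroup.mem_centralizer_singleton_iff]
    have h' := mul_right_cancel h
    push_cast
    calc ((q.out : D) : P)⁻¹ * ((q'.out : D) : P) * s
        = ((q.out : D) : P)⁻¹ * (((q'.out : D) : P) * s * ((q'.out : D) : P)⁻¹) * ((q'.out : D) : P) := by group
      _ = ((q.out : D) : P)⁻¹ * (((q.out : D) : P) * s * ((q.out : D) : P)⁻¹) * ((q'.out : D) : P) := by rw [h']
      _ = s * (((q.out : D) : P)⁻¹ * ((q'.out : D) : P)) := by group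
  have h1 := Basics.card_map_mul_card_inf_ker f D
  rw [inf_eq_right.2 (show f.ker ≤ D from fun k hk => by
      rw [hD, mem_comap, MonoidHom.mem_ker.1 hk]; exact one_mem _),
    hD, Subgroup.map_comap_eq_self_of_surjective hf] at h1
  have h2 := Subgroup.card_eq_card_quotient_mul_card_subgroup (C.subgroupOf D)
  rw [Nat.card_congr (Subgroup.subgroupOfEquivOfLe hCD).toEquiv] at h2
  have h3 : Nat.card D ≤ Nat.card f.ker * Nat.card C := by
    rw [h2]; exact Nat.mul_le_mul_right _ (Nat.card_le_card_of_injective φ hφ)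
  rw [← hD] at h1
  rw [← h1, mul_comm] at h3
  exact Nat.le_of_mul_le_mul_left h3 Nat.card_pos

theorem center_le_commutator {P : Type u} [Group P] [Finite P] {n : ℕ} (h : IsMax p n P) (hn : 3 ≤ n) :
    center P ≤ commutator P := by
  haveI := h.isPGroup.isNilpotent
  have hz := (center_data h.isPGroup h.card hn h.class_eq).1
  have heq : (⊤ : Subgroup P).lowerCentralSeries (n - 2) = center P := Subgroup.eq_of_le_of_card_ge h.le_center
    (by rw [hz, h.lcs_card (n - 2) (by omega) (by omega), show n - 1 - (n - 2) = 1 by omega, pow_one])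
  rw [← heq, ← Subgroup.top_lowerCentralSeries_one]
  exact (⊤ : Subgroup P).lowerCentralSeries_antitone (by omega)

/-- If the centralizer of `x` has a p-subgroup of order exceeding `p ^ 2`, then `x` fuses into the derived group. -/
theorem key (n : ℕ) : ∀ (G : Type u) [Group G] [Finite G] (P : Sylow p G), IsMax p n ↥(P : Subgroup G) →
    ∀ x : ↥(P : Subgroup G), x ∉ commutator ↥(P : Subgroup G) →
    Nat.card (Subgroup.centralizer ({x} : Set ↥(P : Subgroup G))) = p ^ 2 →
    ∀ L : Subgroup G, IsPGroup p L → L ≤ Subgroup.centralizer ({(x : G)} : Set G) → p ^ 2 < Nat.card L →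
    ∃ g : G, ∃ w ∈ commutator ↥(P : Subgroup G), g * (x : G) * g⁻¹ = (w : G) := by
  classical
  induction n using Nat.strong_induction_on with
  | _ n ih =>
  intro G _ _ P hmax x hx1 hx2 L hLp hLx hLcard
  have hp2 := hp.out.two_le
  have hn : 3 ≤ n := by
    obtain ⟨S, hS⟩ := hLp.exists_le_sylow
    have h1 := Subgroup.card_le_of_le hS
    have h2 : Nat.card (S : Subgroup G) = Nat.card (P : Subgroup G) := by
      rw [S.card_eq_multiplicity, P.card_eq_multiplicity]
    rw [h2, hmax.card] at h1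
    by_contra hlt
    have := Nat.pow_le_pow_right hp.out.pos (show n ≤ 2 by omega)
    omega
  haveI := hmax.isPGroup.isNilpotent
  have hzc := (center_data hmax.isPGroup hmax.card hn hmax.class_eq).1
  obtain ⟨zP, hzP⟩ : ∃ zP, zpowers zP = center ↥(P : Subgroup G) := by
    haveI : IsCyclic (center ↥(P : Subgroup G)) := isCyclic_of_prime_card hzc
    exact (Subgroup.isCyclic_iff_exists_zpowers_eq_top (center ↥(P : Subgroup G))).1 inferInstance
  set z : G := (zP : G) with hz
  have hzord : orderOf z = p := by rw [hz, Subgroup.orderOf_coe, ← Nat.card_zpowers, hzP, hzc]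
  have hzcen : zP ∈ center ↥(P : Subgroup G) := hzP ▸ mem_zpowers zP
  have hzcomm : zP ∈ commutator ↥(P : Subgroup G) := center_le_commutator hmax hn hzcen
  have hPz : ∀ g ∈ (P : Subgroup G), g * z = z * g := fun g hg =>
    congrArg Subtype.val (mem_center_iff.1 hzcen ⟨g, hg⟩)
  have hPH : (P : Subgroup G) ≤ Subgroup.centralizer ({z} : Set G) :=
    fun g hg => Subgroup.mem_centralizer_singleton_iff.2 (hPz g hg)
  have hxz : (x : G) * z = z * x := hPz _ x.2
  set QG : Subgroup G := (Subgroup.centralizer ({x} : Set ↥(P : Subgroup G))).map (P : Subgroup G).subtype with hQ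
  have hQcard : Nat.card QG = p ^ 2 := by
    rw [hQ, Nat.card_congr (Subgroup.equivMapOfInjective _ _ (subtype_injective _)).toEquiv.symm, hx2]
  have hmemQ : ∀ g : G, g ∈ QG ↔ g ∈ (P : Subgroup G) ∧ g * x = x * g := by
    intro g
    rw [hQ, Subgroup.mem_map]
    constructor
    · rintro ⟨y, hy, rfl⟩
      exact ⟨y.2, congrArg Subtype.val (Subgroup.mem_centralizer_singleton_iff.1 hy)⟩
    · rintro ⟨hg, hgx⟩
      exact ⟨⟨g, hg⟩, Subgroup.mem_centralizer_singleton_iff.2 (Subtype.ext hgx), rfl⟩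
  by_cases hA : ∃ L' : Subgroup G, IsPGroup p L' ∧ L' ≤ Subgroup.centralizer ({(x : G)} : Set G) ∧
      L' ≤ Subgroup.centralizer ({z} : Set G) ∧ p ^ 2 < Nat.card L'
  · clear hLp hLx hLcard L
    obtain ⟨L, hLp, hLx, hLH, hLcard⟩ := hA
    set H := Subgroup.centralizer ({z} : Set G) with hH
    set zH : H := ⟨z, Subgroup.mem_centralizer_singleton_iff.2 rfl⟩ with hzH
    set K := zpowers zH with hK
    haveI hKn : K.Normal := ⟨fun k hk g => by
      obtain ⟨j, rfl⟩ := mem_zpowers_iff.1 hk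
      have hc : Commute g zH := Subtype.ext (Subgroup.mem_centralizer_singleton_iff.1 g.2)
      rw [(hc.zpow_right j).eq, mul_inv_cancel_right]
      exact zpow_mem (mem_zpowers zH) j⟩
    have hKcard : Nat.card K = p := by
      rw [hK, Nat.card_zpowers, ← Subgroup.orderOf_coe]; exact hzord
    set π := QuotientGroup.mk' K with hπ
    have hπs : Function.Surjective π := QuotientGroup.mk'_surjective K
    set Pb := (P.subtype hPH).mapSurjective hπs with hPb
    set f : ↥(P : Subgroup G) →* H ⧸ K := π.comp (Subgroup.inclusion hPH) with hf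
    have hrange : f.range = (Pb : Subgroup (H ⧸ K)) := by
      rw [hPb, Sylow.coe_mapSurjective, Sylow.coe_subtype, hf, MonoidHom.range_comp]
      congr 1
      exact Subgroup.inclusion_range hPH
    set f' : ↥(P : Subgroup G) →* ↥(Pb : Subgroup (H ⧸ K)) :=
      f.codRestrict _ (fun y => hrange ▸ ⟨y, rfl⟩) with hf'
    have hf's : Function.Surjective f' := by
      rintro ⟨y, hy⟩
      rw [← hrange] at hy
      obtain ⟨w, rfl⟩ := hy
      exact ⟨w, rfl⟩
    have hmemK : ∀ y : H, y ∈ K ↔ ∃ j : ℤ, (y : G) = z ^ j := by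
      intro y
      rw [hK, mem_zpowers_iff]
      constructor
      · rintro ⟨j, rfl⟩; exact ⟨j, by simp [hzH]⟩
      · rintro ⟨j, hj⟩; exact ⟨j, Subtype.ext (by simp [hzH, hj])⟩
    have hker : f'.ker = center ↥(P : Subgroup G) := by
      ext y
      rw [MonoidHom.mem_ker, Subtype.ext_iff, ← hzP, mem_zpowers_iff]
      show π (Subgroup.inclusion hPH y) = 1 ↔ _
      rw [hπ, QuotientGroup.mk'_apply, QuotientGroup.eq_one_iff, hmemK]
      constructor
      · rintro ⟨j, hj⟩; exact ⟨j, Subtype.ext (by simpa [hz] using hj.symm)⟩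
      · rintro ⟨j, rfl⟩; exact ⟨j, by simp [hz]⟩
    have hmax' : IsMax p (n - 1) ↥(Pb : Subgroup (H ⧸ K)) :=
      isMax_of_surjective hmax hn f' hf's (by rw [hker, hzc])
    have hxb1 : f' x ∉ commutator ↥(Pb : Subgroup (H ⧸ K)) := by
      intro hmem
      have hc : commutator ↥(Pb : Subgroup (H ⧸ K)) = (commutator ↥(P : Subgroup G)).map f' := by
        rw [_root_.commutator_def, _root_.commutator_def, Subgroup.map_commutator, ← MonoidHom.range_eq_map,
          MonoidHom.range_eq_top.2 hf's]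
      rw [hc, ← mem_comap, Subgroup.comap_map_eq, hker, sup_eq_left.2 (center_le_commutator hmax hn)] at hmem
      exact hx1 hmem
    have hxb2 : Nat.card (Subgroup.centralizer ({f' x} : Set ↥(Pb : Subgroup (H ⧸ K)))) = p ^ 2 := by
      refine le_antisymm ((card_centralizer_map_le f' hf's x).trans_eq hx2) ?_
      exact sq_le_card_centralizer hmax'.isPGroup
        (by rw [hmax'.card]; exact Nat.pow_le_pow_right hp.out.pos (by omega)) _
    set xH : H := Subgroup.inclusion hPH x with hxH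
    set xb : H ⧸ K := π xH with hxb
    have hxbval : ((f' x : ↥(Pb : Subgroup (H ⧸ K))) : H ⧸ K) = xb := rfl
    set Lb := (L.subgroupOf H).map π with hLb
    have hLbp : IsPGroup p Lb := (hLp.comap_subtype).map π
    set Cb := Subgroup.centralizer ({xb} : Set (H ⧸ K)) with hCb
    have hLbC : Lb ≤ Cb := by
      rintro _ ⟨l, hl, rfl⟩
      rw [hCb, Subgroup.mem_centralizer_singleton_iff, hxb, ← map_mul, ← map_mul]
      exact congrArg π (Subtype.ext (Subgroup.mem_centralizer_singleton_iff.1 (hLx hl)))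
    have hLcard' : p ^ 3 ≤ Nat.card L := by
      obtain ⟨e, he⟩ := IsPGroup.iff_card.1 hLp
      rw [he, Nat.pow_lt_pow_iff_right hp.out.one_lt] at hLcard
      rw [he]; exact Nat.pow_le_pow_right hp.out.pos hLcard
    have hLb2 : p ^ 2 ≤ Nat.card Lb := by
      have h1 := Basics.card_map_mul_card_inf_ker π (L.subgroupOf H)
      rw [hπ, QuotientGroup.ker_mk', Nat.card_congr (Subgroup.subgroupOfEquivOfLe hLH).toEquiv] at h1
      have h2 : Nat.card ↥(L.subgroupOf H ⊓ K) ≤ p := hKcard ▸ Subgroup.card_le_of_le inf_le_right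
      have h3 : p ^ 2 * p ≤ Nat.card Lb * p := by
        rw [← pow_succ]
        exact hLcard'.trans (h1 ▸ Nat.mul_le_mul_left _ h2)
      exact Nat.le_of_mul_le_mul_right h3 hp.out.pos
    obtain ⟨S, hS⟩ := (hLbp.comap_subtype (K := Cb)).exists_le_sylow
    rcases Nat.lt_or_ge (p ^ 2) (Nat.card (S : Subgroup Cb)) with hbig | hsmall
    · obtain ⟨g, w, hw, hgw⟩ := ih (n - 1) (by omega) (H ⧸ K) Pb hmax' (f' x) hxb1 hxb2
        ((S : Subgroup Cb).map Cb.subtype) (S.2.map _)
        (by rw [hxbval]; exact Subgroup.map_subtype_le _)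
        (by rwa [Nat.card_congr (Subgroup.equivMapOfInjective _ _ (subtype_injective _)).toEquiv.symm])
      obtain ⟨gH, rfl⟩ := hπs g
      obtain ⟨c, rfl⟩ := hf's w
      rw [hxbval] at hgw
      have hgw' : π (gH * xH * gH⁻¹) = π (Subgroup.inclusion hPH c) := by
        rw [map_mul, map_mul, map_inv, ← hxb, hgw]; rfl
      rw [hπ, QuotientGroup.mk'_apply, QuotientGroup.mk'_apply, QuotientGroup.eq, hmemK] at hgw'
      obtain ⟨j, hj⟩ := hgw'
      have hc : c ∈ commutator ↥(P : Subgroup G) := by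
        have hcm : commutator ↥(Pb : Subgroup (H ⧸ K)) = (commutator ↥(P : Subgroup G)).map f' := by
          rw [_root_.commutator_def, _root_.commutator_def, Subgroup.map_commutator, ← MonoidHom.range_eq_map,
            MonoidHom.range_eq_top.2 hf's]
        rw [hcm, ← mem_comap, Subgroup.comap_map_eq, hker, sup_eq_left.2 (center_le_commutator hmax hn)] at hw
        exact hw
      refine ⟨(gH : G), c * zP ^ (-j), mul_mem hc (zpow_mem hzcomm _), ?_⟩
      push_cast at hj
      simp only [hxH, Subgroup.coe_inclusion] at hj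
      push_cast
      rw [← hz, zpow_neg, ← hj]
      group
    · exfalso
      have hLS : Lb.subgroupOf Cb = (S : Subgroup Cb) := Subgroup.eq_of_le_of_card_ge hS
        (by rw [Nat.card_congr (Subgroup.subgroupOfEquivOfLe hLbC).toEquiv]; exact hsmall.trans hLb2)
      set Cp := (Subgroup.centralizer ({f' x} : Set ↥(Pb : Subgroup (H ⧸ K)))).map
        (Pb : Subgroup (H ⧸ K)).subtype with hCp
      have hCpC : Cp ≤ Cb := by
        rintro _ ⟨y, hy, rfl⟩
        rw [hCb, Subgroup.mem_centralizer_singleton_iff]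
        exact congrArg Subtype.val (Subgroup.mem_centralizer_singleton_iff.1 hy)
      have hCpp : IsPGroup p Cp := (Pb.2.to_subgroup _).map _
      obtain ⟨S2, hS2⟩ := (hCpp.comap_subtype (K := Cb)).exists_le_sylow
      have hS2eq : Cp.subgroupOf Cb = (S2 : Subgroup Cb) := Subgroup.eq_of_le_of_card_ge hS2 (by
        rw [Nat.card_congr (Subgroup.subgroupOfEquivOfLe hCpC).toEquiv, hCp,
          Nat.card_congr (Subgroup.equivMapOfInjective _ _ (subtype_injective _)).toEquiv.symm, hxb2,
          S2.card_eq_multiplicity, ← S.card_eq_multiplicity]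
        exact hsmall)
      obtain ⟨c, hc⟩ := MulAction.exists_smul_eq Cb S S2
      obtain ⟨cH, hcH⟩ := hπs (c : H ⧸ K)
      set y : G := (cH : G) * (x : G) * (cH : G)⁻¹ with hy
      obtain ⟨j, hj⟩ : ∃ j : ℤ, y = (x : G) * z ^ j := by
        have h1 : π (cH * xH * cH⁻¹) = π xH := by
          rw [map_mul, map_mul, map_inv, hcH, ← hxb, Subgroup.mem_centralizer_singleton_iff.1 c.2,
            mul_inv_cancel_right]
        rw [eq_comm, hπ, QuotientGroup.mk'_apply, QuotientGroup.mk'_apply, QuotientGroup.eq, hmemK] at h1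
        obtain ⟨j, hj⟩ := h1
        refine ⟨j, ?_⟩
        push_cast at hj
        simp only [hxH, Subgroup.coe_inclusion] at hj
        rw [hy, ← hj]
        group
      have hsub : ∀ l ∈ L, (cH : G) * l * (cH : G)⁻¹ ∈ QG := by
        intro l hl
        have hl2 : (⟨π ⟨l, hLH hl⟩, hLbC ⟨⟨l, hLH hl⟩, hl, rfl⟩⟩ : Cb) ∈ (S : Subgroup Cb) := by
          rw [← hLS]; exact ⟨⟨l, hLH hl⟩, hl, rfl⟩
        have h3 : c * ⟨π ⟨l, hLH hl⟩, hLbC ⟨⟨l, hLH hl⟩, hl, rfl⟩⟩ * c⁻¹ ∈ (S2 : Subgroup Cb) := by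
          rw [← hc, Sylow.coe_subgroup_smul]
          exact Subgroup.smul_mem_pointwise_smul _ (MulAut.conj c) _ hl2
        rw [← hS2eq, Subgroup.mem_subgroupOf] at h3
        obtain ⟨q, -, hq⟩ := h3
        obtain ⟨d, rfl⟩ := hf's q
        have h4 : π (cH * ⟨l, hLH hl⟩ * cH⁻¹) = π (Subgroup.inclusion hPH d) := by
          rw [map_mul, map_mul, map_inv, hcH]
          exact hq.symm
        rw [hπ, QuotientGroup.mk'_apply, QuotientGroup.mk'_apply, QuotientGroup.eq, hmemK] at h4
        obtain ⟨i, hi⟩ := h4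
        push_cast at hi
        simp only [Subgroup.coe_inclusion] at hi
        rw [inv_mul_eq_iff_eq_mul] at hi
        have hP' : (cH : G) * l * (cH : G)⁻¹ ∈ (P : Subgroup G) := by
          have h5 : ((cH : G) * l * (cH : G)⁻¹) = (d : G) * z ^ (-i) := by
            rw [hi, zpow_neg, mul_inv_cancel_right]
          rw [h5]; exact mul_mem d.2 (zpow_mem zP.2 _)
        rw [hmemQ]
        refine ⟨hP', ?_⟩
        have hly : (cH : G) * l * (cH : G)⁻¹ * y = y * ((cH : G) * l * (cH : G)⁻¹) := by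
          rw [hy]
          calc (cH : G) * l * (cH : G)⁻¹ * ((cH : G) * x * (cH : G)⁻¹) = (cH : G) * (l * x) * (cH : G)⁻¹ := by group
            _ = (cH : G) * ((x : G) * l) * (cH : G)⁻¹ := by
              rw [Subgroup.mem_centralizer_singleton_iff.1 (hLx hl)]
            _ = _ := by group
        rw [hj] at hly
        set u := (cH : G) * l * (cH : G)⁻¹
        have hcz : Commute u (z ^ j) := (show Commute u z from hPz _ hP').zpow_right j
        rw [← mul_assoc, mul_assoc (x : G) (z ^ j) u, ← hcz.eq, ← mul_assoc] at hly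
        exact mul_right_cancel hly
      have hle : L.map (MulAut.conj (cH : G)).toMonoidHom ≤ QG := by
        rintro _ ⟨l, hl, rfl⟩
        exact hsub l hl
      have hcardle := Subgroup.card_le_of_le hle
      rw [Nat.card_congr (Subgroup.equivMapOfInjective _ _ (MulAut.conj (cH : G)).injective).toEquiv.symm,
        hQcard] at hcardle
      omega
  -- the linear case
  push Not at hA
  have hQx : QG ≤ Subgroup.centralizer ({(x : G)} : Set G) := fun g hg =>
    Subgroup.mem_centralizer_singleton_iff.2 ((hmemQ g).1 hg).2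
  have hQp : IsPGroup p QG := (P.2.to_subgroup _).map _
  set Cx := Subgroup.centralizer ({(x : G)} : Set G) with hCx
  obtain ⟨S0, hS0⟩ := (hQp.comap_subtype (K := Cx)).exists_le_sylow
  obtain ⟨S1, hS1⟩ := (hLp.comap_subtype (K := Cx)).exists_le_sylow
  set T := (S0 : Subgroup Cx).map Cx.subtype with hT
  have hTx : T ≤ Cx := Subgroup.map_subtype_le _
  have hTp : IsPGroup p T := S0.2.map _
  have hTcard : p ^ 2 < Nat.card T := by
    rw [hT, Nat.card_congr (Subgroup.equivMapOfInjective _ _ (subtype_injective _)).toEquiv.symm,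
      S0.card_eq_multiplicity, ← S1.card_eq_multiplicity]
    refine hLcard.trans_le ?_
    rw [← Nat.card_congr (Subgroup.subgroupOfEquivOfLe hLx).toEquiv]
    exact Subgroup.card_le_of_le hS1
  have hQT : QG ≤ T := fun g hg => ⟨⟨g, hQx hg⟩, hS0 hg, rfl⟩
  have hTz : T ⊓ Subgroup.centralizer ({z} : Set G) = QG := by
    refine (Subgroup.eq_of_le_of_card_ge (le_inf hQT fun g hg => hPH ((hmemQ g).1 hg).1) ?_).symm
    rw [hQcard]
    exact hA _ (hTp.to_le inf_le_left) (inf_le_left.trans hTx) inf_le_right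
  have hnz : z ∉ zpowers (x : G) := by
    intro hmem
    obtain ⟨m, hm⟩ := mem_zpowers_iff.1 hmem
    have hle : T ≤ Subgroup.centralizer ({z} : Set G) := fun t ht => by
      rw [Subgroup.mem_centralizer_singleton_iff, ← hm]
      exact ((show Commute t (x : G) from Subgroup.mem_centralizer_singleton_iff.1 (hTx ht)).zpow_right m).eq
    have := hA T hTp hTx hle
    omega
  have hxQ : (x : G) ∈ QG := (hmemQ _).2 ⟨x.2, rfl⟩
  have hzQ : z ∈ QG := (hmemQ _).2 ⟨zP.2, hxz.symm⟩
  have hxord : orderOf (x : G) = p := by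
    have hd : orderOf (x : G) ∣ p ^ 2 := by
      have := orderOf_dvd_natCard (⟨(x : G), hxQ⟩ : QG)
      rwa [hQcard, Subgroup.orderOf_mk] at this
    obtain ⟨e, he, hee⟩ := (Nat.dvd_prime_pow hp.out).1 hd
    have hx0 : (x : G) ≠ 1 := fun h1 => hx1 (by
      rw [show x = 1 from Subtype.ext h1]; exact one_mem _)
    have he0 : e ≠ 0 := fun h0 => hx0 (orderOf_eq_one_iff.1 (by rw [hee, h0, pow_zero]))
    have he2 : e ≠ 2 := by
      intro h2
      apply hnz
      have heq : zpowers (x : G) = QG := Subgroup.eq_of_le_of_card_ge (zpowers_le.2 hxQ)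
        (by rw [Nat.card_zpowers, hee, h2, hQcard])
      rw [heq]; exact hzQ
    rw [hee, show e = 1 by omega, pow_one]
  have hcx : Commute (x : G) z := hxz
  have hgen : ∀ q ∈ QG, ∃ i j : ℤ, q = (x : G) ^ i * z ^ j := by
    let U : Subgroup G :=
      { carrier := {q | ∃ i j : ℤ, q = (x : G) ^ i * z ^ j}
        one_mem' := ⟨0, 0, by simp⟩
        mul_mem' := by
          rintro _ _ ⟨i, j, rfl⟩ ⟨i', j', rfl⟩
          refine ⟨i + i', j + j', ?_⟩
          rw [zpow_add, zpow_add, mul_assoc, ← mul_assoc (z ^ j), ((hcx.symm.zpow_zpow j i')).eq]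
          group
        inv_mem' := by
          rintro _ ⟨i, j, rfl⟩
          refine ⟨-i, -j, ?_⟩
          rw [mul_inv_rev, ← zpow_neg, ← zpow_neg, (hcx.symm.zpow_zpow (-j) (-i)).eq] }
    have hUQ : U ≤ QG := by
      rintro _ ⟨i, j, rfl⟩
      exact mul_mem (zpow_mem hxQ i) (zpow_mem hzQ j)
    have hxU : zpowers (x : G) ≤ U := zpowers_le.2 ⟨1, 0, by simp⟩
    have hzU : z ∈ U := ⟨0, 1, by simp⟩
    have hlt : zpowers (x : G) < U := lt_of_le_of_ne hxU fun he => hnz (he ▸ hzU)
    have h1 := Basics.card_lt_of_lt hlt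
    rw [Nat.card_zpowers, hxord] at h1
    obtain ⟨e, he⟩ := IsPGroup.iff_card.1 (hQp.to_le hUQ)
    have he2 : 2 ≤ e := by
      rw [he] at h1
      have := (Nat.pow_lt_pow_iff_right hp.out.one_lt).1 (show p ^ 1 < p ^ e by rwa [pow_one])
      omega
    have heq : U = QG := Subgroup.eq_of_le_of_card_ge hUQ
      (by rw [hQcard, he]; exact Nat.pow_le_pow_right hp.out.pos he2)
    intro q hq
    rw [← heq] at hq
    exact hq
  have hxm : ∀ i i' : ℤ, (p : ℤ) ∣ i - i' → (x : G) ^ i = (x : G) ^ i' := fun i i' h => by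
    rw [zpow_eq_zpow_iff_modEq, hxord]
    exact (Int.modEq_iff_dvd.2 h).symm
  have hzm : ∀ i i' : ℤ, (p : ℤ) ∣ i - i' → z ^ i = z ^ i' := fun i i' h => by
    rw [zpow_eq_zpow_iff_modEq, hzord]
    exact (Int.modEq_iff_dvd.2 h).symm
  -- an element of `P` moving `x`
  obtain ⟨b, hbP, hbQ, hbn⟩ : ∃ b ∈ (P : Subgroup G), b ∉ QG ∧ b * x * b⁻¹ ∈ QG := by
    set C := Subgroup.centralizer ({x} : Set ↥(P : Subgroup G)) with hC
    have hlt : C < ⊤ := lt_top_iff_ne_top.2 fun h => by
      rw [h, Subgroup.card_top, hmax.card] at hx2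
      have := Nat.pow_right_injective hp.out.two_le hx2
      omega
    have hn2 := Group.normalizerCondition_of_isNilpotent (G := ↥(P : Subgroup G)) C hlt
    obtain ⟨b, hb, hbC⟩ := SetLike.exists_of_lt hn2
    refine ⟨b, b.2, fun h => hbC ?_, ?_⟩
    · exact Subgroup.mem_centralizer_singleton_iff.2 (Subtype.ext ((hmemQ _).1 h).2)
    · exact ⟨b * x * b⁻¹, (Subgroup.mem_normalizer_iff.1 hb x).1
        (Subgroup.mem_centralizer_singleton_iff.2 rfl), rfl⟩
  obtain ⟨i', j', hij'⟩ := hgen _ hbn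
  have hi' : (p : ℤ) ∣ i' - 1 := by
    by_contra hnd
    apply hx1
    have he : (⟨b, hbP⟩ : ↥(P : Subgroup G)) * x * (⟨b, hbP⟩)⁻¹ = x ^ i' * zP ^ j' :=
      Subtype.ext (by push_cast; exact hij')
    have hmem : x ^ (i' - 1) ∈ commutator ↥(P : Subgroup G) := by
      have h1 : ⁅(⟨b, hbP⟩ : ↥(P : Subgroup G)), x⁆ ∈ commutator ↥(P : Subgroup G) :=
        commutator_mem_commutator (mem_top _) (mem_top _)
      have hc : Commute x zP := Subtype.ext hxz
      have h2 : x ^ (i' - 1) = ⁅(⟨b, hbP⟩ : ↥(P : Subgroup G)), x⁆ * zP ^ (-j') := by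
        rw [commutatorElement_def, he, zpow_sub, zpow_one, zpow_neg, mul_assoc (x ^ i') (zP ^ j'),
          ← ((hc.zpow_right j').inv_left).eq]
        group
      rw [h2]
      exact mul_mem h1 (zpow_mem hzcomm _)
    have hcop : IsCoprime (i' - 1) (p : ℤ) :=
      ((Nat.prime_iff_prime_int.1 hp.out).coprime_iff_not_dvd.2 hnd).symm
    obtain ⟨u, v, huv⟩ := hcop
    have : x = (x ^ (i' - 1)) ^ u := by
      refine Subtype.ext ?_
      push_cast
      rw [← zpow_mul]
      conv_lhs => rw [← zpow_one (x : G)]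
      exact hxm _ _ ⟨v, by linarith⟩
    rw [this]; exact zpow_mem hmem u
  have hbx : b * x * b⁻¹ = (x : G) * z ^ j' := by
    rw [hij', hxm i' 1 hi', zpow_one]
  have hj' : ¬ (p : ℤ) ∣ j' := by
    intro hd
    apply hbQ
    rw [hmemQ]
    refine ⟨hbP, ?_⟩
    rw [hzm j' 0 (by simpa using hd), zpow_zero, mul_one] at hbx
    exact mul_inv_eq_iff_eq_mul.1 hbx
  have hbm : ∀ m : ℕ, b ^ m * x * (b ^ m)⁻¹ = (x : G) * z ^ (j' * m) := by
    intro m
    induction m with
    | zero => simp
    | succ m ihm =>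
      have hbz : Commute b (z ^ (j' * (m : ℤ))) := (show Commute b z from hPz b hbP).zpow_right _
      calc b ^ (m + 1) * x * (b ^ (m + 1))⁻¹ = b * (b ^ m * x * (b ^ m)⁻¹) * b⁻¹ := by rw [pow_succ']; group
        _ = b * ((x : G) * z ^ (j' * (m : ℤ))) * b⁻¹ := by rw [ihm]
        _ = b * x * (z ^ (j' * (m : ℤ)) * b⁻¹) := by group
        _ = b * x * b⁻¹ * z ^ (j' * (m : ℤ)) := by rw [← hbz.inv_left.eq]; group
        _ = _ := by rw [hbx, mul_assoc, ← zpow_add]; congr 2; push_cast; ring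
  -- an element centralizing `x` moving `z`
  obtain ⟨a, haT, haQ, han⟩ : ∃ a ∈ T, a ∉ QG ∧ a * z * a⁻¹ ∈ QG := by
    haveI := hTp.isNilpotent
    have hlt : QG.subgroupOf T < ⊤ := lt_top_iff_ne_top.2 fun h => by
      have h1 : T ≤ QG := Subgroup.subgroupOf_eq_top.1 h
      have := Subgroup.card_le_of_le h1
      omega
    have hn2 := Group.normalizerCondition_of_isNilpotent (G := T) _ hlt
    obtain ⟨a, ha, haC⟩ := SetLike.exists_of_lt hn2
    refine ⟨a, a.2, fun h => haC h, ?_⟩
    exact (Subgroup.mem_normalizer_iff.1 ha ⟨z, hQT hzQ⟩).1 hzQ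
  obtain ⟨i, k, hik⟩ := hgen _ han
  have hax : a * x * a⁻¹ = (x : G) := by
    rw [Subgroup.mem_centralizer_singleton_iff.1 (hTx haT), mul_inv_cancel_right]
  have hi : ¬ (p : ℤ) ∣ i := by
    intro hd
    apply haQ
    rw [← hTz]
    refine ⟨haT, Subgroup.mem_centralizer_singleton_iff.2 ?_⟩
    rw [hxm i 0 (by simpa using hd), zpow_zero, one_mul] at hik
    have hpow : ∀ m : ℕ, a ^ m * z * (a ^ m)⁻¹ = z ^ (k ^ m) := by
      intro m
      induction m with
      | zero => simp
      | succ m ihm =>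
        calc a ^ (m + 1) * z * (a ^ (m + 1))⁻¹ = a * (a ^ m * z * (a ^ m)⁻¹) * a⁻¹ := by rw [pow_succ']; group
          _ = (a * z * a⁻¹) ^ (k ^ m) := by rw [ihm, conj_zpow]
          _ = _ := by rw [hik, ← zpow_mul, pow_succ']
    obtain ⟨e, he⟩ := hTp ⟨a, haT⟩
    have he' : a ^ p ^ e = 1 := congrArg Subtype.val he
    have h1 := hpow (p ^ e)
    rw [he', one_mul, inv_one, mul_one] at h1
    have hk1 : z ^ k = z := by
      have h2 : z ^ (k ^ p ^ e) = z ^ k := hzm _ _ (by
        rw [← ZMod.intCast_zmod_eq_zero_iff_dvd]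
        push_cast
        rw [ZMod.pow_card_pow, sub_self])
      rw [← h2]; exact h1.symm
    rw [hk1] at hik
    exact mul_inv_eq_iff_eq_mul.1 hik
  obtain ⟨t, ht⟩ : ∃ t : ℕ, (p : ℤ) ∣ 1 + i * t := by
    refine ⟨(-(i : ZMod p)⁻¹).val, ?_⟩
    rw [← ZMod.intCast_zmod_eq_zero_iff_dvd]
    push_cast
    rw [ZMod.natCast_val, ZMod.cast_id', id, mul_neg, mul_inv_cancel₀, add_neg_cancel]
    rwa [Ne, ZMod.intCast_zmod_eq_zero_iff_dvd]
  obtain ⟨m, hm⟩ : ∃ m : ℕ, (p : ℤ) ∣ j' * m - t := by
    refine ⟨((j' : ZMod p)⁻¹ * (t : ZMod p)).val, ?_⟩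
    rw [← ZMod.intCast_zmod_eq_zero_iff_dvd]
    push_cast
    rw [ZMod.natCast_val, ZMod.cast_id', id, mul_inv_cancel_left₀, sub_self]
    rwa [Ne, ZMod.intCast_zmod_eq_zero_iff_dvd]
  refine ⟨a * b ^ m, zP ^ (k * t), zpow_mem hzcomm _, ?_⟩
  calc a * b ^ m * (x : G) * (a * b ^ m)⁻¹ = a * (b ^ m * x * (b ^ m)⁻¹) * a⁻¹ := by group
    _ = a * x * a⁻¹ * (a * z * a⁻¹) ^ (t : ℤ) := by
      rw [hbm, hzm _ _ hm, conj_zpow]; group
    _ = (x : G) * ((x : G) ^ i * z ^ k) ^ (t : ℤ) := by rw [hax, hik]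
    _ = (x : G) ^ (1 + i * t) * z ^ (k * t) := by
      rw [(hcx.zpow_zpow i k).mul_zpow, ← zpow_mul, ← zpow_mul, zpow_add, zpow_one, mul_assoc]
    _ = _ := by
      rw [hxm (1 + i * t) 0 (by simpa using ht), zpow_zero, one_mul]
      push_cast
      rfl

end Cfsg.Agent.MaxSylow
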