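import Mathlib
import Cfsg.Prelude
import Cfsg.Agent.Lib.MaxSylow.Key
import Cfsg.Agent.Lib.Transfer.Tate
import Cfsg.Agent.Lib.Basics.Cores

/-! Groups with Sylow subgroup of maximal class: a centralizer with p-part p² or quasisimple. -/

set_option autoImplicit false

namespace Cfsg.Agent.MaxSylow

open Subgroup
open scoped Pointwise commutatorElement
open Cfsg.Agent.FGB.MaxClass

universe u

theorem main {G : Type u} [Group G] [Finite G] (p : ℕ) [hp : Fact p.Prime] (P : Sylow p G) (n : ℕ)
    (hP : Nat.card P = p ^ n) (hn : 2 ≤ n) (hcl : Group.nilpotencyClass ↥(P : Subgroup G) = n - 1)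
    (hcore : Cfsg.pPrimeCore p G = ⊥) (hres : ∀ N : Subgroup G, N.Normal → (N.index).Coprime p → N = ⊤) :
    (∃ x ∈ (P : Subgroup G), (Nat.card (Subgroup.centralizer ({x} : Set G))).factorization p = 2) ∨
      (Cfsg.IsQuasisimple G ∧ Nat.card (Subgroup.center G) ≤ p) := by
  classical
  haveI := P.2.isNilpotent
  have hmax : IsMax p n ↥(P : Subgroup G) := isMax_of_class hn hP hcl
  rw [or_iff_not_imp_left]
  intro hbad
  push Not at hbad
  have hp2 := hp.out.two_le
  have hfact : (Nat.card G).factorization p = n := by
    have h1 : Nat.card (P : Subgroup G) = p ^ (Nat.card G).factorization p := P.card_eq_multiplicity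
    rw [show Nat.card (P : Subgroup G) = p ^ n from hP] at h1
    exact (Nat.pow_right_injective hp2 h1).symm
  have hn3 : 3 ≤ n := by
    by_contra h3
    refine hbad 1 (one_mem _) ?_
    have h1 : Subgroup.centralizer ({(1 : G)} : Set G) = ⊤ :=
      eq_top_iff.2 fun g _ => Subgroup.mem_centralizer_singleton_iff.2 (by simp)
    rw [h1, Subgroup.card_top, hfact]
    omega
  set D := commutator ↥(P : Subgroup G) with hD
  have hF : ∀ x : ↥(P : Subgroup G), x ∉ D →
      Nat.card (Subgroup.centralizer ({x} : Set ↥(P : Subgroup G))) = p ^ 2 →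
      ∃ g : G, ∃ w ∈ D, g * (x : G) * g⁻¹ = (w : G) := by
    intro x hx1 hx2
    set Cx := Subgroup.centralizer ({(x : G)} : Set G) with hCx
    obtain ⟨S⟩ : Nonempty (Sylow p Cx) := inferInstance
    refine key n G P hmax x hx1 hx2 ((S : Subgroup Cx).map Cx.subtype) (S.2.map _) (map_subtype_le _) ?_
    rw [Nat.card_congr (Subgroup.equivMapOfInjective _ _ (subtype_injective _)).toEquiv.symm,
      S.card_eq_multiplicity]
    refine Nat.pow_lt_pow_right hp.out.one_lt ?_
    have hle : (Subgroup.centralizer ({x} : Set ↥(P : Subgroup G))).map (P : Subgroup G).subtype ≤ Cx := by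
      rintro _ ⟨y, hy, rfl⟩
      exact Subgroup.mem_centralizer_singleton_iff.2
        (congrArg Subtype.val (Subgroup.mem_centralizer_singleton_iff.1 hy))
    have hdvd := Subgroup.card_dvd_of_le hle
    rw [Nat.card_congr (Subgroup.equivMapOfInjective _ _ (subtype_injective _)).toEquiv.symm, hx2,
      hp.out.pow_dvd_iff_le_factorization Nat.card_pos.ne'] at hdvd
    exact lt_of_le_of_ne hdvd (Ne.symm (hbad x x.2))
  -- normal subgroups containing the derived group of `P` are everything
  have hX : ∀ N : Subgroup G, N.Normal → D ≤ N.subgroupOf (P : Subgroup G) → N = ⊤ := by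
    intro N hN hDN
    apply hres N hN
    have hPN : N.subgroupOf (P : Subgroup G) = ⊤ := by
      by_contra hne
      obtain ⟨x, hxM, hx1, hx2⟩ := exists_good hmax hn3 _ hne
      obtain ⟨g, w, hw, hgw⟩ := hF x hx1 hx2
      apply hxM
      rw [Subgroup.mem_subgroupOf]
      have h1 : (w : G) ∈ N := hDN hw
      rw [← hgw] at h1
      have h2 := hN.conj_mem _ h1 g⁻¹
      simpa [mul_assoc] using h2
    refine (Nat.Coprime.symm ((Nat.Prime.coprime_iff_not_dvd hp.out).2 fun hd => P.not_dvd_index ?_))
    exact hd.trans (Subgroup.index_dvd_of_le (Subgroup.subgroupOf_eq_top.1 hPN))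
  -- G is not a p-group
  have hGnp : (P : Subgroup G) ≠ ⊤ := by
    intro htop
    obtain ⟨x, -, hx1, hx2⟩ := exists_good hmax hn3 (⊥ : Subgroup ↥(P : Subgroup G))
      (fun h => by
        have := congrArg (fun H : Subgroup ↥(P : Subgroup G) => Nat.card H) h
        simp only [Subgroup.card_bot, Subgroup.card_top] at this
        rw [hmax.card] at this
        exact (Nat.one_lt_pow (show n ≠ 0 by omega) hp.out.one_lt).ne this)
    refine hbad x x.2 ?_
    have h1 : Subgroup.centralizer ({(x : G)} : Set G) =
        (Subgroup.centralizer ({x} : Set ↥(P : Subgroup G))).map (P : Subgroup G).subtype := by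
      ext g
      rw [Subgroup.mem_map]
      constructor
      · intro hg
        exact ⟨⟨g, htop ▸ mem_top g⟩,
          Subgroup.mem_centralizer_singleton_iff.2 (Subtype.ext (Subgroup.mem_centralizer_singleton_iff.1 hg)), rfl⟩
      · rintro ⟨y, hy, rfl⟩
        exact Subgroup.mem_centralizer_singleton_iff.2
          (congrArg Subtype.val (Subgroup.mem_centralizer_singleton_iff.1 hy))
    rw [h1, Nat.card_congr (Subgroup.equivMapOfInjective _ _ (subtype_injective _)).toEquiv.symm, hx2,
      hp.out.factorization_pow, Finsupp.single_eq_same]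
  -- normal p-subgroups have order at most p
  have hY : ∀ N : Subgroup G, N.Normal → IsPGroup p N → Nat.card N ≤ p := by
    intro N hN hNp
    by_contra hgt
    push Not at hgt
    obtain ⟨g0, hg0⟩ := hNp.exists_le_sylow
    have hNP : N ≤ (P : Subgroup G) := by
      obtain ⟨c, hc⟩ := MulAction.exists_smul_eq G g0 P
      intro a ha
      rw [← hc, Sylow.coe_subgroup_smul]
      have h1 : c⁻¹ * a * c ∈ (g0 : Subgroup G) := hg0 (by simpa using hN.conj_mem a ha c⁻¹)
      have h2 := Subgroup.smul_mem_pointwise_smul _ (MulAut.conj c) _ h1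
      simp only [MulAut.smul_def, MulAut.conj_apply] at h2
      rwa [show c * (c⁻¹ * a * c) * c⁻¹ = a by group] at h2
    set M := N.subgroupOf (P : Subgroup G) with hM
    haveI : M.Normal := hN.subgroupOf _
    have hMcard : Nat.card M = Nat.card N := Nat.card_congr (Subgroup.subgroupOfEquivOfLe hNP).toEquiv
    obtain ⟨e, he⟩ := IsPGroup.iff_card.1 (hNp)
    have he2 : 2 ≤ e := by
      by_contra h
      rw [he] at hgt
      have := Nat.pow_le_pow_right hp.out.pos (show e ≤ 1 by omega)
      rw [pow_one] at this
      omega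
    by_cases hMtop : M = ⊤
    · have hPN : N = (P : Subgroup G) := le_antisymm hNP (Subgroup.subgroupOf_eq_top.1 hMtop)
      refine hGnp (hres _ (hPN ▸ hN) ?_)
      exact (Nat.Coprime.symm ((Nat.Prime.coprime_iff_not_dvd hp.out).2 P.not_dvd_index))
    obtain ⟨x, hxM, hx1, hx2⟩ := exists_good hmax hn3 M hMtop
    obtain ⟨g, w, hw, hgw⟩ := hF x hx1 hx2
    -- `w` centralizes a subgroup of order `p ^ 2` of `N`
    have hwC : p ^ 2 ≤ Nat.card ↥(N ⊓ Subgroup.centralizer ({(w : G)} : Set G)) := by
      obtain ⟨W, hWM, hWcard, hWw⟩ : ∃ W : Subgroup ↥(P : Subgroup G), W ≤ M ∧ p ^ 2 ≤ Nat.card W ∧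
          ∀ a ∈ W, a * w = w * a := by
        rcases Nat.lt_or_ge n 4 with h4 | h4
        · refine ⟨M, le_rfl, by rw [hMcard, he]; exact Nat.pow_le_pow_right hp.out.pos he2, fun a _ => ?_⟩
          have h1 : w ∈ (⊤ : Subgroup ↥(P : Subgroup G)).lowerCentralSeries (n - 2) := by
            rw [show n - 2 = 1 by omega, Subgroup.top_lowerCentralSeries_one]; exact hw
          exact mem_center_iff.1 (hmax.le_center h1) a
        refine ⟨(⊤ : Subgroup ↥(P : Subgroup G)).lowerCentralSeries (n - 3), ?_, ?_, fun a ha => ?_⟩
        · obtain ⟨r, hr⟩ := IsPGroup.iff_card.1 (hmax.isPGroup.to_quotient M)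
          rw [← Subgroup.index_eq_card] at hr
          have hcard := M.card_mul_index
          rw [hMcard, he, hr, hmax.card, ← pow_add] at hcard
          have her := Nat.pow_right_injective hp2 hcard
          rcases Nat.lt_or_ge r 2 with hr2 | hr2
          · have hle : commutator ↥(P : Subgroup G) ≤ M := by
              haveI : IsCyclic (↥(P : Subgroup G) ⧸ M) := by
                rcases Nat.eq_zero_or_pos r with rfl | h0
                · haveI := (Nat.card_eq_one_iff_unique.1 (by
                    rw [← Subgroup.index_eq_card, hr, pow_zero] : Nat.card (↥(P : Subgroup G) ⧸ M) = 1)).1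
                  infer_instance
                · exact isCyclic_of_prime_card (p := p) (by
                    rw [← Subgroup.index_eq_card, hr, show r = 1 by omega, pow_one])
              rw [_root_.commutator_def, commutator_le]
              intro a _ b _
              rw [← QuotientGroup.eq_one_iff, ← QuotientGroup.mk'_apply, map_commutatorElement,
                commutatorElement_eq_one_iff_mul_comm]
              exact (IsCyclic.commGroup (α := ↥(P : Subgroup G) ⧸ M)).mul_comm _ _
            refine le_trans ?_ hle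
            rw [← Subgroup.top_lowerCentralSeries_one]
            exact (⊤ : Subgroup ↥(P : Subgroup G)).lowerCentralSeries_antitone (by omega)
          · rw [hmax.eq_of_index hn3 M hr2 hr]
            exact (⊤ : Subgroup ↥(P : Subgroup G)).lowerCentralSeries_antitone (by omega)
        · rw [hmax.lcs_card (n - 3) (by omega) (by omega), show n - 1 - (n - 3) = 2 by omega]
        · have hw1 : w ∈ (⊤ : Subgroup ↥(P : Subgroup G)).lowerCentralSeries 1 := by
            rw [Subgroup.top_lowerCentralSeries_one]; exact hw
          have h1 := FGS.PolySeq.fil_comm (G := ↥(P : Subgroup G)) (1 + 1) (n - 3 + 1)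
            (commutator_mem_commutator ha hw1)
          rw [show n - 3 + 1 + (1 + 1) = (n - 1) + 1 by omega] at h1
          have h1' : ⁅a, w⁆ ∈ (⊤ : Subgroup ↥(P : Subgroup G)).lowerCentralSeries (n - 1) := h1
          rw [hmax.lcs_top, mem_bot] at h1'
          exact commutatorElement_eq_one_iff_mul_comm.1 h1'
      refine le_trans ?_ (Subgroup.card_le_of_le
        (show W.map (P : Subgroup G).subtype ≤ N ⊓ Subgroup.centralizer ({(w : G)} : Set G) from ?_))
      · rwa [Nat.card_congr (Subgroup.equivMapOfInjective _ _ (subtype_injective _)).toEquiv.symm]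
      · rintro _ ⟨a, ha, rfl⟩
        exact ⟨hWM ha, Subgroup.mem_centralizer_singleton_iff.2 (congrArg Subtype.val (hWw a ha))⟩
    -- transport to `x`
    have hxC : Nat.card ↥(N ⊓ Subgroup.centralizer ({(w : G)} : Set G)) ≤
        Nat.card ↥((Subgroup.centralizer ({x} : Set ↥(P : Subgroup G)) ⊓ M)) := by
      rw [← Nat.card_congr (Subgroup.equivMapOfInjective
          (Subgroup.centralizer ({x} : Set ↥(P : Subgroup G)) ⊓ M) _
          (subtype_injective (P : Subgroup G))).toEquiv.symm,
        Nat.card_congr (Subgroup.equivMapOfInjective (N ⊓ Subgroup.centralizer ({(w : G)} : Set G))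
          (MulAut.conj g⁻¹).toMonoidHom (MulAut.conj g⁻¹).injective).toEquiv]
      refine Subgroup.card_le_of_le ?_
      rintro _ ⟨a, ⟨haN, haw⟩, rfl⟩
      have h1 : g⁻¹ * a * g ∈ N := by simpa using hN.conj_mem a haN g⁻¹
      refine ⟨⟨g⁻¹ * a * g, hNP h1⟩, ⟨?_, h1⟩, by simp⟩
      refine Subgroup.mem_centralizer_singleton_iff.2 (Subtype.ext ?_)
      have h2 := Subgroup.mem_centralizer_singleton_iff.1 haw
      rw [← hgw] at h2
      show g⁻¹ * a * g * (x : G) = (x : G) * (g⁻¹ * a * g)
      calc g⁻¹ * a * g * (x : G) = g⁻¹ * (a * (g * (x : G) * g⁻¹)) * g := by group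
        _ = g⁻¹ * (g * (x : G) * g⁻¹ * a) * g := by rw [h2]
        _ = _ := by group
    have hlt : Subgroup.centralizer ({x} : Set ↥(P : Subgroup G)) ⊓ M <
        Subgroup.centralizer ({x} : Set ↥(P : Subgroup G)) :=
      lt_of_le_of_ne inf_le_left fun heq =>
        hxM (inf_eq_left.1 heq (Subgroup.mem_centralizer_singleton_iff.2 rfl))
    have h3 := Cfsg.Agent.Basics.card_lt_of_lt hlt
    rw [hx2] at h3
    omega
  -- proper normal subgroups have order at most p
  have hsmall : ∀ N : Subgroup G, N.Normal → N = ⊤ ∨ (IsPGroup p N ∧ Nat.card N ≤ p) := by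
    intro N hN
    by_cases htop : N = ⊤
    · exact Or.inl htop
    right
    set M := N.subgroupOf (P : Subgroup G) with hM
    haveI : M.Normal := hN.subgroupOf _
    have hMD : M ≤ D := by
      obtain ⟨r, hr⟩ := IsPGroup.iff_card.1 (hmax.isPGroup.to_quotient M)
      rw [← Subgroup.index_eq_card] at hr
      rcases Nat.lt_or_ge r 2 with hr2 | hr2
      · refine absurd (hX N hN ?_) htop
        haveI : IsCyclic (↥(P : Subgroup G) ⧸ M) := by
          rcases Nat.eq_zero_or_pos r with rfl | h0
          · haveI := (Nat.card_eq_one_iff_unique.1 (by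
              rw [← Subgroup.index_eq_card, hr, pow_zero] : Nat.card (↥(P : Subgroup G) ⧸ M) = 1)).1
            infer_instance
          · exact isCyclic_of_prime_card (p := p) (by
              rw [← Subgroup.index_eq_card, hr, show r = 1 by omega, pow_one])
        rw [hD, _root_.commutator_def, commutator_le]
        intro a _ b _
        rw [← QuotientGroup.eq_one_iff, ← QuotientGroup.mk'_apply, map_commutatorElement,
          commutatorElement_eq_one_iff_mul_comm]
        exact (IsCyclic.commGroup (α := ↥(P : Subgroup G) ⧸ M)).mul_comm _ _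
      · rw [hmax.eq_of_index hn3 M hr2 hr, hD, ← Subgroup.top_lowerCentralSeries_one]
        exact (⊤ : Subgroup ↥(P : Subgroup G)).lowerCentralSeries_antitone (by omega)
    have hfr : N ⊓ (P : Subgroup G) ≤ (frattini ↥(P : Subgroup G)).map (P : Subgroup G).subtype :=
      fun a ha => ⟨⟨a, ha.2⟩, Cfsg.Agent.Basics.commutator_le_frattini (hMD (show (⟨a, ha.2⟩ : ↥(P : Subgroup G)) ∈ M from ha.1)), rfl⟩
    have hcompl := Transfer.hasNormalPComplement_of_le_frattini P N hfr
    rw [Transfer.hasNormalPComplement_iff] at hcompl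
    haveI : ((Cfsg.pResidual p N).map N.subtype).Normal :=
      haveI := Transfer.pResidual_characteristic N p
      haveI := hN
      inferInstance
    have hbot : (Cfsg.pResidual p N).map N.subtype = ⊥ := by
      rw [← le_bot_iff, ← hcore]
      refine Cfsg.Agent.Basics.le_pPrimeCore ?_
      rw [card_map_of_injective N.subtype_injective]
      exact ((hp.out.coprime_iff_not_dvd).2 hcompl).symm
    rw [Subgroup.map_eq_bot_iff_of_injective _ N.subtype_injective] at hbot
    have hNp : IsPGroup p N := by
      have h1 := Transfer.isPGroup_quotient_pResidual (p := p) (G := N)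
      refine h1.of_injective (QuotientGroup.mk' _) ?_
      rw [← MonoidHom.ker_eq_bot_iff, QuotientGroup.ker_mk', hbot]
    exact ⟨hNp, hY N hN hNp⟩
  have hnpG : ¬ IsPGroup p G := fun h => hGnp (P.3 (h.to_subgroup ⊤) le_top).symm
  -- perfect
  have hperf : commutator G = ⊤ := by
    rcases hsmall (commutator G) inferInstance with h | ⟨hp', -⟩
    · exact h
    exfalso
    obtain ⟨S, hS⟩ := hp'.exists_le_sylow
    haveI hSn : (S : Subgroup G).Normal :=
      Subgroup.Normal.of_commutator_le _ hS
    have : (S : Subgroup G) = ⊤ := hres _ hSn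
      ((Nat.Prime.coprime_iff_not_dvd hp.out).2 S.not_dvd_index).symm
    refine hnpG ?_
    have h2 := S.2
    rw [this] at h2
    exact h2.of_equiv Subgroup.topEquiv
  haveI hPerfG : Group.IsPerfect G := ⟨hperf⟩
  have hnontriv : ¬ ∀ a b : G, a * b = b * a := by
    intro hab
    refine hnpG ?_
    have : commutator G = ⊥ := by
      rw [_root_.commutator_def, Subgroup.commutator_eq_bot_iff_le_centralizer]
      exact fun a _ => Subgroup.mem_centralizer_iff.2 fun b _ => hab b a
    intro a
    exact ⟨0, by
      have ha : a ∈ (⊥ : Subgroup G) := this ▸ hperf ▸ mem_top a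
      rw [mem_bot.1 ha]; simp⟩
  have hZtop : center G ≠ ⊤ := fun h => hnontriv fun a b => mem_center_iff.1 (h ▸ mem_top b) a
  refine ⟨⟨hPerfG, ?_⟩, ?_⟩
  · haveI : Nontrivial (G ⧸ center G) := QuotientGroup.nontrivial_iff.2 hZtop
    refine ⟨fun B hB => ?_⟩
    set N := B.comap (QuotientGroup.mk' (center G)) with hN
    have hNn : N.Normal := hB.comap _
    rcases hsmall N hNn with h | ⟨hNp, hNcard⟩
    · right
      rw [← Subgroup.map_comap_eq_self_of_surjective (QuotientGroup.mk'_surjective (center G)) B, ← hN, h,
        ← MonoidHom.range_eq_map, MonoidHom.range_eq_top.2 (QuotientGroup.mk'_surjective _)]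
    · left
      have hNc : N ≤ center G := by
        haveI := hNn
        haveI : IsCyclic N := by
          obtain ⟨e, he⟩ := IsPGroup.iff_card.1 hNp
          rcases Nat.eq_zero_or_pos e with rfl | h0
          · haveI := (Nat.card_eq_one_iff_unique.1 (by rw [he, pow_zero] : Nat.card N = 1)).1
            infer_instance
          · refine isCyclic_of_prime_card (p := p) ?_
            rw [he] at hNcard ⊢
            have := (Nat.pow_le_pow_iff_right hp.out.one_lt).1 (show p ^ e ≤ p ^ 1 by rwa [pow_one])
            rw [show e = 1 by omega, pow_one]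
        letI : CommGroup N := IsCyclic.commGroup
        set φ := (MulAut.conjNormal : G →* MulAut N) with hφ
        have hcomm : ∀ a b : MulAut N, a * b = b * a := by
          intro a b
          obtain ⟨gn, hgn⟩ := IsCyclic.exists_monoid_generator (α := N)
          obtain ⟨i, hi⟩ := Submonoid.mem_powers_iff _ _ |>.1 (hgn (a gn))
          obtain ⟨j, hj⟩ := Submonoid.mem_powers_iff _ _ |>.1 (hgn (b gn))
          ext c
          obtain ⟨k, rfl⟩ := Submonoid.mem_powers_iff _ _ |>.1 (hgn c)
          simp only [MulAut.mul_apply, map_pow, ← hi, ← hj, ← pow_mul]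
          rw [mul_comm j i]
        have hker : φ.ker = ⊤ := by
          rw [eq_top_iff, ← hperf, _root_.commutator_def, commutator_le]
          intro a _ b _
          rw [MonoidHom.mem_ker, map_commutatorElement, commutatorElement_eq_one_iff_mul_comm]
          exact hcomm _ _
        intro a ha
        rw [mem_center_iff]
        intro g
        have h1 : φ g = 1 := MonoidHom.mem_ker.1 (hker ▸ mem_top g)
        have h2 := congrArg (fun f : MulAut N => ((f ⟨a, ha⟩ : N) : G)) h1
        simp only [hφ, MulAut.conjNormal_apply, MulAut.one_apply] at h2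
        exact mul_inv_eq_iff_eq_mul.1 h2
      rw [← Subgroup.map_comap_eq_self_of_surjective (QuotientGroup.mk'_surjective (center G)) B, ← hN,
        Subgroup.map_eq_bot_iff, QuotientGroup.ker_mk']
      exact hNc
  · rcases hsmall (center G) inferInstance with h | ⟨-, h⟩
    · exact absurd h hZtop
    · exact h

end Cfsg.Agent.MaxSylow
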